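import Groth.Agent.FinPtsReg.Sections
import Groth.Agent.DivEuler.Filt
import Groth.Agent.H28.PBExist
import Groth.Agent.H28.PBCores
import Groth.Agent.Lib.CurveTensor
import Groth.Agent.QCoh.CechStd
import Groth.Agent.S0844
import Groth.Prelude.Def_Curv2

/-!
# Cohomology of the ideal of a finite subscheme of projective space
-/

set_option autoImplicit false
set_option linter.style.haveILetI false
set_option linter.unusedSectionVars false
set_option backward.isDefEq.respectTransparency false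
set_option backward.isDefEq.respectTransparency.types false
set_option maxHeartbeats 1000000

universe u

open CategoryTheory CategoryTheory.Limits AlgebraicGeometry TopologicalSpace Opposite
open Groth.Agent.H23
open scoped Groth.Agent.H23.PicMul
open Groth.Agent.PnCoh.Finite (mapLin deltaLin)

noncomputable section

namespace Groth.Agent.FinPtsReg

variable (k : Type u) [Field k] {n : ℕ} {X : Scheme.{u}} (i : X ⟶ CohB1.ProjSpace n k) [IsClosedImmersion i]
  [Finite X]

include i in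
/-- A finite closed subscheme of projective space over an infinite field is affine. -/
theorem isAffine_of_finite [Infinite k] : IsAffine X := by
  let i' : X ⟶ Proj (CohB1.polyGrading n k) := i
  haveI : IsClosedImmersion i' := ‹IsClosedImmersion i›
  obtain ⟨t, ht, htS⟩ := exists_linearForm_avoid k n (Set.finite_range i')
  have hD : i' ⁻¹ᵁ Proj.basicOpen (CohB1.polyGrading n k) t = ⊤ := top_le_iff.1 fun x _ => htS _ ⟨x, rfl⟩
  have h : IsAffineOpen (i' ⁻¹ᵁ Proj.basicOpen (CohB1.polyGrading n k) t) :=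
    (Proj.isAffineOpen_basicOpen _ t ht one_pos).preimage i'
  rw [hD] at h
  haveI : IsAffine (⊤ : X.Opens).toScheme := h
  exact IsAffine.of_isIso X.topIso.inv

/-- Higher cohomology of `Q ⊗ O(d)` for the structure sheaf `Q` of a finite subscheme. -/
theorem subsingleton_quot_twist [Infinite k] (L : (CohB1.ProjSpace n k).Modules) (hL : PicF.IsInvertible L)
    (q : ℕ) (hq : 1 ≤ q) :
    Subsingleton (Coh.HH (CohB1.ProjSpace n k) ((DCoh.tensorBi.obj L).obj (ClSub.quotMod i.ker)) q) := by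
  haveI := isAffine_of_finite k i
  obtain ⟨θ⟩ := DivEuler.nonempty_tensor_quotMod i hL
  have hM : Coh.IsQCoh ((Scheme.Modules.pullback i).obj L) :=
    ProjUPX.isQCoh_of_isInvertible (PicClLib.isInvertible_pullback i hL)
  obtain ⟨e⟩ := QCoh.HH_push_of_isAffineHom i hM q
  obtain ⟨q', rfl⟩ : ∃ q', q = q' + 1 := ⟨q - 1, by omega⟩
  haveI := QCoh.subsingleton_HH_of_isAffine hM q'
  exact QCoh.subsingleton_HH_of_iso θ.symm _ e.symm.toEquiv.subsingleton

/-- The twisted ideal sequence and the surjectivity of restriction give the vanishing of `H¹`. -/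
theorem exists_sequence (L : (CohB1.ProjSpace n k).Modules) (hL : PicF.IsInvertible L) :
    ∃ T : ShortComplex (CohB1.ProjSpace n k).Modules, T.ShortExact ∧
      Nonempty (T.X₁ ≅ CohB1.tensorMod (ClSub.idealMod i.ker) L) ∧ Nonempty (T.X₂ ≅ L) ∧
      Nonempty (T.X₃ ≅ (DCoh.tensorBi.obj L).obj (ClSub.quotMod i.ker)) ∧
      (Function.Surjective (((Scheme.Modules.pullbackPushforwardAdjunction i).unit.app L).app ⊤) →
        Function.Surjective (T.g.app ⊤)) := by
  let O := Coh.structureModule (CohB1.ProjSpace n k)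
  have hLlf : FlatMod.IsFinLocFree L := H28.KvbModel.lf_of_rank (H28.PBCores.isInvertible_iff_rank.1 hL)
  let S := ShortComplex.mk (ClSub.idealModι i.ker) (ClSub.toSubscheme i.ker) (kernel.condition _)
  have hS : S.ShortExact := DivisorExt.ideal_shortExact i.ker
  have hT := CurveTensor.shortExact_tensor hLlf _ _ _ hS
  refine ⟨_, hT, PicMul.cl_eq_iff.1 (show PicF.cl (CohB1.tensorMod L (ClSub.idealMod i.ker)) = _ by
    rw [PicMul.cl_tensor, PicMul.cl_tensor, mul_comm]), ⟨KFlatLib.tensorUnitIso L⟩, ⟨Iso.refl _⟩, fun hη => ?_⟩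
  obtain ⟨θ⟩ := DivEuler.nonempty_tensor_quotMod i hL
  let u := KFlatLib.tensorUnitIso L
  let g : (DCoh.tensorBi.obj L).obj O ⟶ (DCoh.tensorBi.obj L).obj (ClSub.quotMod i.ker) :=
    (DCoh.tensorBi.obj L).map (ClSub.toSubscheme i.ker)
  haveI : Epi g := hT.epi_g
  let M := (Scheme.Modules.pullback i).obj L
  let g' : L ⟶ (Scheme.Modules.pushforward i).obj M := u.inv ≫ g ≫ θ.hom
  let adj := Scheme.Modules.pullbackPushforwardAdjunction i
  let h : M ⟶ M := (adj.homEquiv L M).symm g'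
  have hg' : g' = adj.unit.app L ≫ (Scheme.Modules.pushforward i).map h :=
    ((adj.homEquiv L M).apply_symm_apply g').symm.trans (adj.homEquiv_unit L M h)
  haveI : Epi g' := inferInstance
  haveI : Epi ((Scheme.Modules.pushforward i).map h) := by
    have : Epi (adj.unit.app L ≫ (Scheme.Modules.pushforward i).map h) := hg' ▸ ‹Epi g'›
    exact epi_of_epi (adj.unit.app L) _
  haveI := AmpleVan.faithful_push i
  haveI : Epi h := (Scheme.Modules.pushforward i).epi_of_epi_map ‹_›
  have hMr := H28.PBCores.isInvertible_iff_rank.1 (PicClLib.isInvertible_pullback i hL)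
  haveI : IsIso h := H28.PBExist.isIso_of_epi_line h hMr hMr
  have hbij : ∀ {A B : (CohB1.ProjSpace n k).Modules} (e : A ⟶ B) [IsIso e], Function.Bijective (e.app ⊤) :=
    fun e _ => (ConcreteCategory.isIso_iff_bijective _).1 (Scheme.Modules.Hom.isIso_iff_isIso_app.1 inferInstance ⊤)
  have h1 : Function.Surjective (g'.app ⊤) := by
    rw [hg']
    intro z
    obtain ⟨y, rfl⟩ := (hbij ((Scheme.Modules.pushforward i).map h)).2 z
    obtain ⟨x, rfl⟩ := hη y
    exact ⟨x, rfl⟩
  intro z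
  obtain ⟨x, hx⟩ := h1 (θ.hom.app ⊤ z)
  refine ⟨u.inv.app ⊤ x, (hbij θ.hom).1 ?_⟩
  exact hx

variable {k}

/-- The long exact sequence at `H¹` of the first term. -/
theorem subsingleton_H1 {Y : Scheme.{u}} [Y.Over (Spec (CommRingCat.of k))] {T : ShortComplex Y.Modules}
    (hT : T.ShortExact) (hg : Function.Surjective (T.g.app ⊤)) (h2 : Subsingleton (Coh.HH Y T.X₂ 1)) :
    Subsingleton (Coh.HH Y T.X₁ 1) := by
  have hg0 : Function.Surjective (mapLin k T.g 0) := by
    intro y
    obtain ⟨a, ha⟩ := hg (Sheaf.H.equiv₀ (Coh.toAb T.X₃) isTerminalTop y)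
    refine ⟨(Sheaf.H.equiv₀ (Coh.toAb T.X₂) isTerminalTop).symm a, (Sheaf.H.equiv₀ (Coh.toAb T.X₃) isTerminalTop).injective ?_⟩
    refine Eq.trans ?_ ha
    exact (Sheaf.H.equiv₀_naturality isTerminalTop ((QCoh.toAbFunctor Y).map T.g) _).symm.trans
      (congrArg _ ((Sheaf.H.equiv₀ (Coh.toAb T.X₂) isTerminalTop).apply_symm_apply a))
  refine subsingleton_of_forall_eq 0 fun x => ?_
  have hx : x ∈ LinearMap.ker (mapLin k T.f (0 + 1)) := LinearMap.mem_ker.2 (h2.elim _ _)
  rw [CurveCohLib.ker_mapLin_f_succ k hT 0] at hx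
  obtain ⟨y, rfl⟩ := hx
  obtain ⟨z, rfl⟩ := hg0 y
  exact LinearMap.mem_ker.1 ((CurveCohLib.ker_deltaLin k hT 0).ge ⟨z, rfl⟩)

/-- Vanishing between two vanishing groups. -/
theorem subsingleton_Hsucc {Y : Scheme.{u}} [Y.Over (Spec (CommRingCat.of k))] {T : ShortComplex Y.Modules}
    (hT : T.ShortExact) (q : ℕ) (h3 : Subsingleton (Coh.HH Y T.X₃ q))
    (h2 : Subsingleton (Coh.HH Y T.X₂ (q + 1))) : Subsingleton (Coh.HH Y T.X₁ (q + 1)) := by
  refine subsingleton_of_forall_eq 0 fun x => ?_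
  have hx : x ∈ LinearMap.ker (mapLin k T.f (q + 1)) := LinearMap.mem_ker.2 (h2.elim _ _)
  rw [CurveCohLib.ker_mapLin_f_succ k hT q] at hx
  obtain ⟨y, rfl⟩ := hx
  rw [h3.elim y 0, map_zero]

theorem isInvertible_twistProjSpace (d : ℤ) : PicF.IsInvertible (Twist.twistProjSpace n k d) :=
  PnCoh.Finite.isInvertible_twist (ProjRegular.coords k n) ProjRegular.coords_mem ProjRegular.coords_cover d

/-- `H¹(I(j)) = 0` for a finite subscheme when `∑ (μ x + 1) ≤ j + 1`. -/
theorem subsingleton_H1_ideal [IsAlgClosed k] (μ : X → ℕ)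
    (hμ : ∀ x : X, IsLocalRing.maximalIdeal (X.presheaf.stalk x) ^ (μ x + 1) = ⊥)
    (j : ℤ) (hj : ((∑ᶠ x : X, μ x) + Nat.card X : ℕ) ≤ j + 1) :
    Subsingleton (Coh.HH (CohB1.ProjSpace n k)
      (CohB1.tensorMod (ClSub.idealMod i.ker) (Twist.twistProjSpace n k j)) 1) := by
  let L := Twist.twistProjSpace n k j
  obtain ⟨T, hT, ⟨t₁⟩, ⟨t₂⟩, -, hg⟩ := exists_sequence k i L (isInvertible_twistProjSpace j)
  have h2 : Subsingleton (Coh.HH (CohB1.ProjSpace n k) T.X₂ 1) :=
    QCoh.subsingleton_HH_of_iso t₂.symm 1 (S0844.result k n j 1 (by omega) (by omega))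
  refine QCoh.subsingleton_HH_of_iso t₁ 1 (subsingleton_H1 (k := k) hT (hg ?_) h2)
  rcases lt_or_ge j 0 with hj0 | hj0
  · intro y
    refine ⟨0, ?_⟩
    haveI : IsEmpty X := by
      by_contra hne
      rw [not_isEmpty_iff] at hne
      have : 0 < Nat.card X := Nat.card_pos
      omega
    exact AModX.eq_of_locally (M := (Scheme.Modules.pullback i).obj L) _ _ fun x _ => isEmptyElim x
  · obtain ⟨m, rfl⟩ := Int.eq_ofNat_of_zero_le hj0
    exact surjective_unit_twist (k := k) n (i : X ⟶ Proj (CohB1.polyGrading n k)) μ hμ m (by omega)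

/-- Regularity. -/
theorem isMRegular_ideal [IsAlgClosed k] (μ : X → ℕ)
    (hμ : ∀ x : X, IsLocalRing.maximalIdeal (X.presheaf.stalk x) ^ (μ x + 1) = ⊥) :
    Curv2.IsMRegular k n (ClSub.idealMod i.ker) (((∑ᶠ x : X, μ x) + Nat.card X : ℕ) : ℤ) := by
  intro q h1 h2
  set t := (∑ᶠ x : X, μ x) + Nat.card X
  rcases eq_or_lt_of_le h1 with rfl | h1
  · exact subsingleton_H1_ideal i μ hμ _ (by omega)
  · obtain ⟨q, rfl⟩ : ∃ r, q = r + 1 := ⟨q - 1, by omega⟩
    let L := Twist.twistProjSpace n k ((t : ℤ) - ((q + 1 : ℕ) : ℤ))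
    obtain ⟨T, hT, ⟨t₁⟩, ⟨t₂⟩, ⟨t₃⟩, -⟩ := exists_sequence k i L (isInvertible_twistProjSpace _)
    refine QCoh.subsingleton_HH_of_iso t₁ _ (subsingleton_Hsucc (k := k) hT q ?_ ?_)
    · exact QCoh.subsingleton_HH_of_iso t₃.symm _ (subsingleton_quot_twist k i L (isInvertible_twistProjSpace _) q (by omega))
    · exact QCoh.subsingleton_HH_of_iso t₂.symm _ (S0844.result k n _ (q + 1) (by omega) (by omega))

end Groth.Agent.FinPtsReg
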