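import Groth.Agent.FinPtsReg.Span
import Groth.Agent.Pic13Lib.HypAvoid
import Groth.Agent.ProjUPX.Unique
import Groth.Agent.QCoh.Support
import Mathlib.RingTheory.Jacobson.Ring

/-!
# Forms restricted to a finite subscheme of projective space
-/

set_option autoImplicit false
set_option linter.style.haveILetI false
set_option linter.unusedSectionVars false
set_option backward.isDefEq.respectTransparency false
set_option backward.isDefEq.respectTransparency.types false
set_option maxHeartbeats 1000000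

universe u

open CategoryTheory CategoryTheory.Limits AlgebraicGeometry TopologicalSpace Opposite HomogeneousLocalization
open Groth.Agent.AModX

noncomputable section

namespace Groth.Agent.FinPtsReg

variable {k : Type u} [Field k]

/-- In a finite type algebra over an algebraically closed field with finitely many primes, every prime has
residue field the ground field. -/
theorem exists_sub_mem_prime [IsAlgClosed k] {A : Type u} [CommRing A] [Algebra k A] [Algebra.FiniteType k A]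
    [Finite (PrimeSpectrum A)] (P : Ideal A) (hP : P.IsPrime) (v : A) : ∃ c : k, v - algebraMap k A c ∈ P := by
  haveI : IsJacobsonRing A := isJacobsonRing_of_finiteType (A := k)
  let S : Set (Ideal A) := {M | M.IsMaximal ∧ P ≤ M}
  have hfin : S.Finite := (Set.finite_range (PrimeSpectrum.asIdeal : PrimeSpectrum A → Ideal A)).subset
    fun M hM => ⟨⟨M, hM.1.isPrime⟩, rfl⟩
  have hmax : P.IsMaximal := by
    have h1 : hfin.toFinset.inf id ≤ P := by
      intro x hx
      have hj : P.jacobson = P := IsJacobsonRing.out' P hP.isRadical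
      rw [← hj, Ideal.jacobson, Ideal.mem_sInf]
      intro M hM
      exact (Finset.inf_le (f := id) (hfin.mem_toFinset.2 ⟨hM.2, hM.1⟩)) hx
    obtain ⟨M, hM, hMP⟩ := (Ideal.IsPrime.inf_le' hP).1 h1
    obtain ⟨hMmax, hPM⟩ := hfin.mem_toFinset.1 hM
    rwa [le_antisymm hPM hMP]
  letI : Field (A ⧸ P) := Ideal.Quotient.field P
  haveI : Module.Finite k (A ⧸ P) := finite_of_finite_type_of_isJacobsonRing k (A ⧸ P)
  obtain ⟨c, hc⟩ := (IsAlgClosed.algebraMap_bijective_of_isIntegral (k := k) (K := A ⧸ P)).2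
    (Ideal.Quotient.mk P v)
  refine ⟨c, Ideal.Quotient.eq_zero_iff_mem.1 ?_⟩
  rw [map_sub, sub_eq_zero, ← hc]
  rfl

variable (k) in
/-- A linear form vanishing at none of finitely many points. -/
theorem exists_linearForm_avoid [Infinite k] (n : ℕ) {S : Set ↥(Proj (CohB1.polyGrading n k))} (hS : S.Finite) :
    ∃ a ∈ CohB1.polyGrading n k 1, ∀ y ∈ S, y ∈ Proj.basicOpen (CohB1.polyGrading n k) a := by
  classical
  let lin : (Fin (n + 1) → k) →ₗ[k] MvPolynomial (Fin (n + 1)) k :=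
    Fintype.linearCombination k fun i => (MvPolynomial.X i : MvPolynomial (Fin (n + 1)) k)
  have hdeg : ∀ c, lin c ∈ CohB1.polyGrading n k 1 := fun c => by
    rw [Fintype.linearCombination_apply]
    exact Submodule.sum_mem _ fun i _ => Submodule.smul_mem _ _ (MvPolynomial.isHomogeneous_X k i)
  let W : S → Submodule k (Fin (n + 1) → k) := fun y =>
    ((y.1.asHomogeneousIdeal.toIdeal).restrictScalars k).comap lin
  obtain ⟨c, hc⟩ : ∃ c, ∀ y, c ∉ W y := by
    haveI := hS.to_subtype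
    by_contra! h
    obtain ⟨y, hy⟩ := Subspace.exists_eq_top_of_iUnion_eq_univ (p := W)
      (Set.eq_univ_of_forall fun c => Set.mem_iUnion.2 (h c))
    obtain ⟨⟨j⟩, hj⟩ := Opens.mem_iSup.1 (ProjRegular.coords_cover.ge (show y.1 ∈ (⊤ : (Proj (CohB1.polyGrading n k)).Opens) from trivial))
    refine hj ?_
    have h1 : (Pi.single j 1 : Fin (n + 1) → k) ∈ W y := hy ▸ Submodule.mem_top
    have h2 : lin (Pi.single j 1) = MvPolynomial.X j := by
      rw [Fintype.linearCombination_apply_single, one_smul]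
    rw [Submodule.mem_comap, h2] at h1
    exact h1
  exact ⟨lin c, hdeg c, fun y hy h => hc ⟨y, hy⟩ h⟩

/-- A form of degree `m` as a section of `O(m)`. -/
def secD {R S : Type u} [CommRing R] [CommRing S] [Algebra R S] (𝒜 : ℕ → Submodule R S) [GradedAlgebra 𝒜]
    {m : ℕ} {a : S} (ha : a ∈ 𝒜 m) : Γ(Twist.twist 𝒜 (m : ℤ), ⊤) :=
  Twist.globalOf 𝒜 ⟨a, ha⟩

theorem secD_apply {R S : Type u} [CommRing R] [CommRing S] [Algebra R S] (𝒜 : ℕ → Submodule R S) [GradedAlgebra 𝒜]
    {m : ℕ} {a : S} (ha : a ∈ 𝒜 m) {V : (Proj 𝒜).Opens} (x : V) :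
    ((show Twist.sectN (𝒜 := 𝒜) (m : ℤ) (op V) from res _ (le_top : V ≤ ⊤) (secD 𝒜 ha)).1 x).1 =
      (Localization.mk a 1 : Twist.Loc 𝒜 x.1) :=
  rfl

theorem loc_aux {S : Type u} [CommRing S] (p : Ideal S) [p.IsPrime] (m : ℕ) (a t : S) (ht : t ∉ p)
    (hle : Submonoid.powers t ≤ Submonoid.comap (RingHom.id S) p.primeCompl) :
    (Localization.mk a 1 : Localization.AtPrime p) =
      IsLocalization.map (S := Localization.Away t) (Localization.AtPrime p) (RingHom.id S) hle
        (Localization.mk a ⟨t ^ m, m, rfl⟩) * Localization.mk (t ^ m) 1 := by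
  rw [Localization.mk_eq_mk' (M := Submonoid.powers t), IsLocalization.map_mk',
    ← Localization.mk_eq_mk', Localization.mk_mul, Localization.mk_eq_mk_iff,
    Localization.r_iff_exists]
  exact ⟨1, by simp; ring⟩

variable {R S : Type u} [CommRing R] [CommRing S] [Algebra R S] (𝒜 : ℕ → Submodule R S) [GradedAlgebra 𝒜]

theorem isFrame_secD {t : S} (ht : t ∈ 𝒜 1) (m : ℕ) :
    InvX.IsFrame (res (Twist.twist 𝒜 (m : ℤ)) (le_top : Proj.basicOpen 𝒜 t ≤ ⊤)
      (secD 𝒜 (PnCoh.pow_mem_one ht m))) := by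
  intro V hV
  have hU : PnCoh.NonVan (𝒜 := 𝒜) t V := fun x => hV x.2
  have h : (fun r : Γ(Proj 𝒜, V) => r • res (Twist.twist 𝒜 (m : ℤ)) hV
      (res (Twist.twist 𝒜 (m : ℤ)) (le_top : Proj.basicOpen 𝒜 t ≤ ⊤) (secD 𝒜 (PnCoh.pow_mem_one ht m)))) =
      fun r => (show Γ(Twist.twist 𝒜 (m : ℤ), V) from PnCoh.trivMap ht (m : ℤ) hU r) := by
    funext r
    rw [res_res]
    refine Subtype.ext (funext fun x => Subtype.ext ?_)
    refine (Twist.coe_smul_val (m : ℤ) x.1 _ _).trans (Eq.trans ?_ (PnCoh.trivMap_apply ht (m : ℤ) hU r x).symm)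
    congr 1
    refine (secD_apply 𝒜 (PnCoh.pow_mem_one ht m) x).trans ?_
    simp [Localization.mk_eq_mk_iff, Localization.r_iff_exists]
  rw [h]
  exact PnCoh.trivMap_bijective ht (m : ℤ) hU

theorem secD_eq_smul {a t : S} {m : ℕ} (ha : a ∈ 𝒜 m) (ht : t ∈ 𝒜 1) :
    res (Twist.twist 𝒜 (m : ℤ)) (le_top : Proj.basicOpen 𝒜 t ≤ ⊤) (secD 𝒜 ha) =
      (Proj.awayToSection 𝒜 t).hom (Away.mk 𝒜 ht m a (by rwa [smul_eq_mul, mul_one])) •
        res (Twist.twist 𝒜 (m : ℤ)) (le_top : Proj.basicOpen 𝒜 t ≤ ⊤) (secD 𝒜 (PnCoh.pow_mem_one ht m)) := by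
  refine Subtype.ext (funext fun x => Subtype.ext ?_)
  refine (secD_apply 𝒜 ha x).trans (Eq.trans ?_ (Twist.coe_smul_val (m : ℤ) x.1 _ _).symm)
  erw [secD_apply 𝒜 (PnCoh.pow_mem_one ht m) x, ProjectiveSpectrum.Proj.awayToSection_apply]
  rw [Away.val_mk]
  exact loc_aux _ m a t x.2 _

/-- Restriction of forms of degree `j` to a finite subscheme is onto when `j + 1` is at least
`∑ (μ x + 1)`. -/
theorem surjective_unit_twist [IsAlgClosed k] (n : ℕ) {X : Scheme.{u}} (i : X ⟶ Proj (CohB1.polyGrading n k))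
    [IsClosedImmersion i] [Finite X] (μ : X → ℕ)
    (hμ : ∀ x : X, IsLocalRing.maximalIdeal (X.presheaf.stalk x) ^ (μ x + 1) = ⊥)
    (j : ℕ) (hj : (∑ᶠ x : X, μ x) + Nat.card X ≤ j + 1) :
    Function.Surjective (((Scheme.Modules.pullbackPushforwardAdjunction i).unit.app
      (Twist.twist (CohB1.polyGrading n k) (j : ℤ))).app ⊤) := by
  classical
  haveI : Fintype X := Fintype.ofFinite X
  obtain ⟨t, ht, htS⟩ := exists_linearForm_avoid k n (Set.finite_range i)
  let 𝒜 := CohB1.polyGrading n k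
  let D := Proj.basicOpen 𝒜 t
  have hD : i ⁻¹ᵁ D = ⊤ := top_le_iff.1 fun x _ => htS _ ⟨x, rfl⟩
  have hDaff : IsAffineOpen D := Proj.isAffineOpen_basicOpen 𝒜 t ht one_pos
  let A := Γ(X, i ⁻¹ᵁ D)
  have hAaff : IsAffineOpen (i ⁻¹ᵁ D) := hDaff.preimage i
  let φ : Away 𝒜 t →+* A := (Proj.awayToSection 𝒜 t ≫ i.app D).hom
  have hφ : Function.Surjective φ := by
    haveI : IsIso (Proj.awayToSection 𝒜 t) := by
      rw [← Proj.basicOpenIsoAway_hom 𝒜 t ht one_pos]; infer_instance
    intro a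
    obtain ⟨b, hb⟩ := i.app_surjective D hDaff a
    obtain ⟨c, rfl⟩ := (ConcreteCategory.bijective_of_isIso (Proj.awayToSection 𝒜 t)).2 b
    exact ⟨c, hb⟩
  have hX : ∀ l, (MvPolynomial.X l : MvPolynomial (Fin (n + 1)) k) ∈ 𝒜 1 := fun l => MvPolynomial.isHomogeneous_X k l
  let c0 : k →+* Away 𝒜 t := (fromZeroRingHom 𝒜 _).comp (algebraMap k (𝒜 0))
  let ev : MvPolynomial (Fin (n + 1)) k →+* A := φ.comp (MvPolynomial.eval₂Hom c0
    fun l => Away.mk 𝒜 ht 1 (MvPolynomial.X l) (by rw [one_smul]; exact hX l))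
  have hev : ∀ (m : ℕ) (p : MvPolynomial (Fin (n + 1)) k) (hp : p ∈ 𝒜 m),
      φ (Away.mk 𝒜 ht m p (by rwa [smul_eq_mul, mul_one])) = ev p := by
    intro m p hp
    have h := ProjUPX.away_mk_eq_eval (𝒜 := 𝒜) hX ht m p hp
      (by rw [MvPolynomial.aeval_X_left_apply, smul_eq_mul, mul_one]; exact hp)
    simp only [MvPolynomial.aeval_X_left_apply] at h
    exact congrArg φ h
  letI : Algebra k A := (φ.comp c0).toAlgebra
  let eva : MvPolynomial (Fin (n + 1)) k →ₐ[k] A := MvPolynomial.aeval fun l => ev (MvPolynomial.X l)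
  have heva : ∀ p, eva p = ev p := fun p => congr($(MvPolynomial.ringHom_ext
    (f := (eva : MvPolynomial (Fin (n + 1)) k →+* A)) (g := ev)
    (fun c => (MvPolynomial.aeval_C _ c).trans (by simp [ev, RingHom.algebraMap_toAlgebra]))
    (fun l => MvPolynomial.aeval_X _ l)) p)
  have hsurj : Function.Surjective eva := fun a => by
    obtain ⟨c, rfl⟩ := hφ a
    obtain ⟨m, b, hb, rfl⟩ := Away.mk_surjective 𝒜 ht c
    exact ⟨b, (heva b).trans (hev m b (by simpa using hb)).symm⟩
  haveI : Algebra.FiniteType k A := Algebra.FiniteType.of_surjective eva hsurj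
  haveI : Finite (PrimeSpectrum A) :=
    Finite.of_surjective (fun x : X => hAaff.primeIdealOf ⟨x, (hD.ge trivial : x ∈ i ⁻¹ᵁ D)⟩) fun q =>
      ⟨hAaff.fromSpec q, hAaff.fromSpec.isOpenEmbedding.injective (hAaff.fromSpec_primeIdealOf ⟨_, _⟩)⟩
  let V : Submodule k A := (𝒜 1).map eva.toLinearMap
  have hV1 : (1 : A) ∈ V := ⟨t, ht, by
    show eva t = 1
    rw [heva, ← hev 1 t ht, ← map_one φ]
    congr 1
    apply val_injective
    rw [Away.val_mk, HomogeneousLocalization.val_one]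
    simp⟩
  have hVgen : Algebra.adjoin k (V : Set A) = ⊤ := by
    refine top_le_iff.1 ?_
    intro a ha
    obtain ⟨p, rfl⟩ := hsurj a
    clear ha
    induction p using MvPolynomial.induction_on with
    | C c => rw [MvPolynomial.aeval_C]; exact Subalgebra.algebraMap_mem _ c
    | add p q hp hq => rw [map_add]; exact add_mem hp hq
    | mul_X p l hp =>
      rw [map_mul]
      exact mul_mem hp (Algebra.subset_adjoin ⟨MvPolynomial.X l, hX l, rfl⟩)
  let P : X → Ideal A := fun x => (hAaff.primeIdealOf ⟨x, (hD.ge trivial : x ∈ i ⁻¹ᵁ D)⟩).asIdeal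
  let s : Multiset (Ideal A) := Finset.univ.val.bind fun x : X => Multiset.replicate (μ x + 1) (P x)
  have hcard : s.card ≤ j + 1 := by
    refine le_trans (le_of_eq ?_) hj
    rw [finsum_eq_sum_of_fintype, Nat.card_eq_fintype_card, Fintype.card, Finset.card_eq_sum_ones,
      ← Finset.sum_add_distrib, Multiset.card_bind]
    exact congrArg Multiset.sum (Multiset.map_congr rfl fun x _ => Multiset.card_replicate _ _)
  have hprod : s.prod = ⊥ := by
    refine eq_bot_iff.2 fun a ha => (Submodule.mem_bot A).2 ?_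
    refine TopCat.Presheaf.section_ext X.sheaf _ a 0 fun x hx => ?_
    refine Eq.trans ?_ (map_zero (X.presheaf.germ (i ⁻¹ᵁ D) x hx).hom).symm
    let g := (X.presheaf.germ (i ⁻¹ᵁ D) x hx).hom
    have hle : (P x).map g ≤ IsLocalRing.maximalIdeal (X.presheaf.stalk x) :=
      Ideal.map_le_iff_le_comap.2 fun b hb => by
        rw [Ideal.mem_comap, IsLocalRing.mem_maximalIdeal, mem_nonunits_iff]
        intro hu
        exact (QCoh.mem_basicOpen_iff_notMem hAaff hx b).1 ((Scheme.mem_basicOpen X b x hx).2 hu) hb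
    have hs : s.prod ≤ P x ^ (μ x + 1) := by
      rw [← Multiset.prod_replicate]
      refine Ideal.le_of_dvd (Multiset.prod_dvd_prod_of_le ?_)
      exact Multiset.le_bind (Finset.univ.val) (Finset.mem_univ x)
    have h := Ideal.mem_map_of_mem g (hs ha)
    rw [Ideal.map_pow] at h
    have h' := Ideal.pow_right_mono hle (μ x + 1) h
    rw [hμ x, Submodule.mem_bot] at h'
    exact h'
  have hsplit : ∀ Q ∈ s, ∀ v ∈ V, ∃ c : k, v - algebraMap k A c ∈ Q := fun Q hQ v _ => by
    obtain ⟨x, -, hQ⟩ := Multiset.mem_bind.1 hQ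
    rw [Multiset.eq_of_mem_replicate hQ]
    exact exists_sub_mem_prime (P x) (hAaff.primeIdealOf _).2 v
  have htop := pow_eq_top V hV1 hVgen s hprod hsplit hcard
  -- sections
  let L := Twist.twist 𝒜 (j : ℤ)
  let η : L ⟶ (Scheme.Modules.pushforward i).obj ((Scheme.Modules.pullback i).obj L) :=
    (Scheme.Modules.pullbackPushforwardAdjunction i).unit.app L
  let M := (Scheme.Modules.pullback i).obj L
  have hfr : InvX.IsFrame (InvX.pullElt i (res L (le_top : D ≤ ⊤) (secD 𝒜 (PnCoh.pow_mem_one ht j)))) :=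
    InvX.isFrame_pullElt i (isFrame_secD 𝒜 ht j)
  set e' := InvX.pullElt i (res L (le_top : D ≤ ⊤) (secD 𝒜 (PnCoh.pow_mem_one ht j))) with he'
  intro y
  obtain ⟨c, hc⟩ := ((hfr (i ⁻¹ᵁ D) le_rfl).2 (res M (le_top : i ⁻¹ᵁ D ≤ ⊤) (show Γ(M, ⊤) from y)))
  obtain ⟨p, hp, hpc⟩ : c ∈ (𝒜 j).map eva.toLinearMap := by
    have h1 : 𝒜 j = (𝒜 1) ^ j := (MvPolynomial.homogeneousSubmodule_one_pow (σ := Fin (n + 1)) (R := k) (n := j)).symm
    rw [h1, Submodule.map_pow, htop]
    trivial
  refine ⟨secD 𝒜 hp, ?_⟩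
  have hinj : Function.Injective (res M (le_top : i ⁻¹ᵁ D ≤ ⊤)) := by
    have key : ∀ (W : X.Opens) (_ : W = ⊤), Function.Injective (res M (le_top : W ≤ ⊤)) := by
      rintro W rfl a b h
      rwa [res_self, res_self] at h
    exact key _ hD
  apply hinj
  refine Eq.trans ?_ hc
  have h2 := congrArg (η.app D) (secD_eq_smul 𝒜 hp ht)
  rw [app_res, Scheme.Modules.Hom.app_smul] at h2
  refine (h2 : _).trans ?_
  show i.app D _ • e' = c • res M le_rfl e'
  rw [res_self, ← hpc]
  exact congrArg (· • e') ((hev j p hp).trans (heva p).symm)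

end Groth.Agent.FinPtsReg
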