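import Mathlib

/-!
# Degree bounds for generators of an algebra with nilpotent product of maximal ideals
-/

set_option autoImplicit false

universe u v

namespace Groth.Agent.FinPtsReg

variable {k : Type u} [CommRing k] {A : Type v} [CommRing A] [Algebra k A] (V : Submodule k A)

theorem le_pow_succ (hV1 : (1 : A) ∈ V) (n : ℕ) : V ^ n ≤ V ^ (n + 1) := fun x hx => by
  rw [pow_succ, ← mul_one x]
  exact Submodule.mul_mem_mul hx hV1

theorem pow_mono_of_one_mem (hV1 : (1 : A) ∈ V) {a b : ℕ} (h : a ≤ b) : V ^ a ≤ V ^ b :=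
  monotone_nat_of_le_succ (f := fun n => V ^ n) (le_pow_succ V hV1) h

/-- Modulo a product of `s` ideals that split `V` off the constants, degree `s` is degree `s - 1`. -/
theorem exists_sub_mem (hV1 : (1 : A) ∈ V) (s : Multiset (Ideal A))
    (hs : ∀ P ∈ s, ∀ v ∈ V, ∃ c : k, v - algebraMap k A c ∈ P) :
    ∀ x ∈ V ^ s.card, ∃ b : A, x - b ∈ s.prod ∧ (b = 0 ∨ (1 ≤ s.card ∧ b ∈ V ^ (s.card - 1))) := by
  induction s using Multiset.induction with
  | empty => intro x _; exact ⟨0, by simp, Or.inl rfl⟩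
  | cons P s ih =>
    intro x hx
    have ih' := ih fun Q hQ => hs Q (Multiset.mem_cons_of_mem hQ)
    rw [Multiset.card_cons, pow_succ] at hx
    rw [Multiset.card_cons, Multiset.prod_cons]
    suffices h : ∃ b ∈ V ^ s.card, x - b ∈ P * s.prod by
      obtain ⟨b, hb, hxb⟩ := h
      exact ⟨b, hxb, Or.inr ⟨Nat.le_add_left 1 _, by simpa using hb⟩⟩
    refine Submodule.mul_induction_on hx (fun y hy v hv => ?_) fun y z hy hz => ?_
    · obtain ⟨b, hyb, hb⟩ := ih' y hy
      obtain ⟨c, hc⟩ := hs P (Multiset.mem_cons_self P s) v hv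
      refine ⟨algebraMap k A c * (y - b) + b * v, ?_, ?_⟩
      · refine Submodule.add_mem _ ?_ ?_
        · rw [← Algebra.smul_def]
          refine Submodule.smul_mem _ _ (Submodule.sub_mem _ hy ?_)
          rcases hb with rfl | ⟨_, hb⟩
          · exact zero_mem _
          · exact pow_mono_of_one_mem V hV1 (Nat.sub_le _ _) hb
        · rcases hb with rfl | ⟨h1, hb⟩
          · rw [zero_mul]; exact zero_mem _
          · obtain ⟨r, hr⟩ : ∃ r, s.card = r + 1 := ⟨s.card - 1, by omega⟩
            rw [hr] at hb ⊢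
            rw [Nat.add_sub_cancel] at hb
            rw [pow_succ]
            exact Submodule.mul_mem_mul hb hv
      · rw [show y * v - (algebraMap k A c * (y - b) + b * v) = (v - algebraMap k A c) * (y - b) by ring]
        exact Ideal.mul_mem_mul hc hyb
    · obtain ⟨a, ha, hya⟩ := hy
      obtain ⟨b, hb, hzb⟩ := hz
      exact ⟨a + b, Submodule.add_mem _ ha hb, by
        rw [add_sub_add_comm]; exact Ideal.add_mem _ hya hzb⟩

/-- If the product of `t` such ideals vanishes then `V ^ j` is everything as soon as `t ≤ j + 1`. -/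
theorem pow_eq_top (hV1 : (1 : A) ∈ V) (hgen : Algebra.adjoin k (V : Set A) = ⊤) (s : Multiset (Ideal A))
    (hprod : s.prod = ⊥) (hs : ∀ P ∈ s, ∀ v ∈ V, ∃ c : k, v - algebraMap k A c ∈ P)
    {j : ℕ} (hj : s.card ≤ j + 1) : V ^ j = ⊤ := by
  rcases Nat.eq_zero_or_pos s.card with h0 | hpos
  · rw [Multiset.card_eq_zero] at h0
    rw [h0, Multiset.prod_zero, Ideal.one_eq_top] at hprod
    haveI : Subsingleton A := by
      refine subsingleton_of_zero_eq_one ?_
      exact ((Submodule.mem_bot A).1 (hprod ▸ (Submodule.mem_top : (1 : A) ∈ (⊤ : Ideal A)))).symm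
    exact Subsingleton.elim _ _
  obtain ⟨r, hr⟩ : ∃ r, s.card = r + 1 := ⟨s.card - 1, by omega⟩
  have hstep : V ^ (r + 1) ≤ V ^ r := fun x hx => by
    obtain ⟨b, hxb, hb⟩ := exists_sub_mem V hV1 s hs x (hr ▸ hx)
    rw [hprod, Ideal.mem_bot, sub_eq_zero] at hxb
    subst hxb
    rcases hb with rfl | ⟨_, hb⟩
    · exact zero_mem _
    · rwa [hr, Nat.add_sub_cancel] at hb
  have hall : ∀ n, V ^ n ≤ V ^ r := by
    intro n
    induction n with
    | zero => exact pow_mono_of_one_mem V hV1 (Nat.zero_le r)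
    | succ n ih =>
      refine le_trans ?_ hstep
      rw [pow_succ, pow_succ]
      exact Submodule.mul_le.2 fun a ha b hb => Submodule.mul_mem_mul (ih ha) hb
  refine top_le_iff.1 (le_trans ?_ (pow_mono_of_one_mem V hV1 (show r ≤ j by omega)))
  intro x _
  have hx : x ∈ Algebra.adjoin k (V : Set A) := hgen ▸ Algebra.mem_top
  have hmem : ∀ y ∈ Submonoid.closure (V : Set A), y ∈ V ^ r := by
    intro y hy
    obtain ⟨n, hn⟩ : ∃ n, y ∈ V ^ n := by
      induction hy using Submonoid.closure_induction with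
      | mem z hz => exact ⟨1, by rwa [pow_one]⟩
      | one => exact ⟨1, by rw [pow_one]; exact hV1⟩
      | mul a b _ _ ha hb =>
        obtain ⟨m, hm⟩ := ha
        obtain ⟨n, hn⟩ := hb
        exact ⟨m + n, by rw [pow_add]; exact Submodule.mul_mem_mul hm hn⟩
    exact hall n hn
  have h2 : x ∈ Subalgebra.toSubmodule (Algebra.adjoin k (V : Set A)) := hx
  rw [Algebra.adjoin_eq_span] at h2
  exact Submodule.span_le.2 hmem h2

end Groth.Agent.FinPtsReg
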